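import Cfsg.Agent.Lib.J11.FmC

/-! # Evaluated formulas, part 2 (generated; helper19) -/

set_option autoImplicit false
set_option maxRecDepth 100000

namespace Cfsg.Lib.J11.Mo

open Subgroup Cfsg.Lib.RI Cfsg.Lib.Calc Cfsg.Lib.Mathieu Cfsg.Lib.T2

namespace Md

variable {γ : ℕ → M24} (h : Md γ)
include h

theorem f_cE : ∀ x ∈ K γ 3, x * γ 7 = γ 7 * x → x * γ 8 = γ 8 * x → x * γ 9 = γ 9 * x → x ∈ K γ 2 :=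
  h.tr (φ := .all 3 100 [(.l 7, .l 7), (.l 8, .l 8), (.l 9, .l 9)] (.mem 2 (.l 100)))
    (by decide +kernel)

theorem f_tE : ∀ x ∈ K γ 2, x = 1 ∨ Cn (K γ 15) (γ 1) x :=
  h.tr (φ := .all 2 100 [] (.or (.one (.l 100)) (.ex 15 106 [(.l 1, .l 100)] (.tt))))
    (by decide +kernel)

theorem f_cS : ∀ x ∈ K γ 3, x * γ 7 = γ 7 * x → x * γ 8 = γ 8 * x → x * γ 9 = γ 9 * x → x * γ 12 = γ 12 * x → x * γ 13 = γ 13 * x → x ∈ K γ 1 :=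
  h.tr (φ := .all 3 100 [(.l 7, .l 7), (.l 8, .l 8), (.l 9, .l 9), (.l 12, .l 12), (.l 13, .l 13)] (.mem 1 (.l 100)))
    (by decide +kernel)

theorem f_ff : ∀ x ∈ K γ 3, x * x = 1 → x * cj (γ 4) x = cj (γ 4) x * x → x ∈ K γ 5 ∨ x * γ 2 ∈ K γ 5 ∨ Cn (K γ 5) x (γ 8) ∨ Cn (K γ 5) x (γ 8 * γ 1)
    :=
  h.tr (φ := .all 3 100 [] (.imp (.one (.mul (.l 100) (.l 100))) (.imp (.eq (.mul (.l 100) (.mul (.mul (.l 4) (.l 100)) (.inv (.l 4)))) (.mul (.mul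
    (.mul (.l 4) (.l 100)) (.inv (.l 4))) (.l 100))) (.or (.mem 5 (.l 100)) (.or (.mem 5 (.mul (.l 100) (.l 2))) (.or (.ex 5 106 [(.l 100, .l 8)]
    (.tt)) (.ex 5 106 [(.l 100, .mul (.l 8) (.l 1))] (.tt))))))))
    (by decide +kernel)

theorem f_h1 : ∀ x ∈ K γ 2, ∀ y ∈ K γ 2, (γ 4 * x) ^ 3 = 1 → (γ 5 * y) ^ 3 = 1 → (γ 4 * x * (γ 5 * y)) ^ 2 = (γ 4 * γ 5) ^ 2 → ∃ g ∈ K γ 2, g * γ 4 =
    γ 4 * x * g ∧ g * γ 5 = γ 5 * y * g ∧ True :=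
  h.tr (φ := .all 2 100 [] (.all 2 101 [] (.imp (.one (.pow (.mul (.l 4) (.l 100)) 3)) (.imp (.one (.pow (.mul (.l 5) (.l 101)) 3)) (.imp (.eq (.pow
    (.mul (.mul (.l 4) (.l 100)) (.mul (.l 5) (.l 101))) 2) (.pow (.mul (.l 4) (.l 5)) 2)) (.ex 2 106 [(.l 4, .mul (.l 4) (.l 100)), (.l 5, .mul (.l
    5) (.l 101))] (.tt)))))))
    (by decide +kernel)

theorem f_dlt : ∀ x ∈ K γ 2, x * cj (γ 13) x ≠ γ 1 * γ 7 ∨ x * cj (γ 11) x ≠ γ 1 * (γ 1 * γ 7) :=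
  h.tr (φ := .all 2 100 [] (.or (.not (.eq (.mul (.l 100) (.mul (.mul (.l 13) (.l 100)) (.inv (.l 13)))) (.mul (.l 1) (.l 7)))) (.not (.eq (.mul (.l
    100) (.mul (.mul (.l 11) (.l 100)) (.inv (.l 11)))) (.mul (.l 1) (.mul (.l 1) (.l 7)))))))
    (by decide +kernel)

theorem f_PF : ∀ x ∈ K γ 11, x * x = 1 ∧ (x ∈ K γ 12 ∨ x ∉ K γ 1 ∧ (Cn (K γ 17) (γ 2) x ∨ Cn (K γ 17) (γ 3) x)) :=
  h.tr (φ := .all 11 100 [] (.and (.one (.mul (.l 100) (.l 100))) (.or (.mem 12 (.l 100)) (.and (.not (.mem 1 (.l 100))) (.or (.ex 17 106 [(.l 2, .l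
    100)] (.tt)) (.ex 17 106 [(.l 3, .l 100)] (.tt)))))))
    (by decide +kernel)

theorem f_tF : ∀ x ∈ K γ 12, x = 1 ∨ Cn (K γ 17) (γ 1) x :=
  h.tr (φ := .all 12 100 [] (.or (.one (.l 100)) (.ex 17 106 [(.l 1, .l 100)] (.tt))))
    (by decide +kernel)

theorem f_nP : ∀ x ∈ K γ 3, cj x (γ 2) ∈ K γ 11 → cj x (γ 11) ∈ K γ 11 → cj x (γ 10) ∈ K γ 11 → cj x (γ 7) ∈ K γ 11 → x ∈ K γ 16 :=
  h.tr (φ := .all 3 100 [] (.imp (.mem 11 (.mul (.mul (.l 100) (.l 2)) (.inv (.l 100)))) (.imp (.mem 11 (.mul (.mul (.l 100) (.l 11)) (.inv (.l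
    100)))) (.imp (.mem 11 (.mul (.mul (.l 100) (.l 10)) (.inv (.l 100)))) (.imp (.mem 11 (.mul (.mul (.l 100) (.l 7)) (.inv (.l 100)))) (.mem 16 (.l
    100)))))))
    (by decide +kernel)

theorem f_nP2 : ∀ x ∈ K γ 4, x ∈ K γ 16 → x ∈ K γ 17 :=
  h.tr (φ := .all 4 100 [] (.imp (.mem 16 (.l 100)) (.mem 17 (.l 100))))
    (by decide +kernel)

theorem f_cP : ∀ x ∈ K γ 3, x * γ 7 = γ 7 * x → x * γ 10 = γ 10 * x → x * γ 11 = γ 11 * x → x * γ 2 = γ 2 * x → x ∈ K γ 11 :=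
  h.tr (φ := .all 3 100 [(.l 7, .l 7), (.l 10, .l 10), (.l 11, .l 11), (.l 2, .l 2)] (.mem 11 (.l 100)))
    (by decide +kernel)

theorem f_dF : Cn (K γ 7) (γ 17) (γ 17 * γ 17) ∧ Cn (K γ 7) (γ 18) (γ 18 * γ 18) ∧ (∀ x ∈ K γ 12, ∃ y ∈ K γ 12, x = cj (γ 19) y * y⁻¹) :=
  h.tr (φ := .and (.ex 7 106 [(.l 17, .mul (.l 17) (.l 17))] (.tt)) (.and (.ex 7 106 [(.l 18, .mul (.l 18) (.l 18))] (.tt)) (.all 12 100 [] (.ex 12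
    101 [] (.eq (.l 100) (.mul (.mul (.mul (.l 19) (.l 101)) (.inv (.l 19))) (.inv (.l 101))))))))
    (by decide +kernel)

theorem f_orb : ∀ x ∈ K γ 4, x * x = 1 → x = 1 ∨ x = γ 1 ∨ Cn (K γ 4) (γ 25) x ∨ Cn (K γ 4) (γ 24) x ∨ Cn (K γ 4) (γ 22) x ∨ Cn (K γ 4) (γ 23) x :=
  h.tr (φ := .all 4 100 [] (.imp (.one (.mul (.l 100) (.l 100))) (.or (.one (.l 100)) (.or (.eq (.l 100) (.l 1)) (.or (.ex 4 106 [(.l 25, .l 100)]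
    (.tt)) (.or (.ex 4 106 [(.l 24, .l 100)] (.tt)) (.or (.ex 4 106 [(.l 22, .l 100)] (.tt)) (.ex 4 106 [(.l 23, .l 100)] (.tt)))))))))
    (by decide +kernel)

theorem f_fa1 : ∃ g ∈ K γ 1, g * γ 1 = γ 22 * g ∧ g * γ 22 = γ 1 * γ 22 * g ∧ (∃ k ∈ K γ 1, k * γ 1 = γ 1 * γ 22 * k ∧ k * γ 22 = γ 26 * k ∧ (∃ l ∈ K
    γ 1, l * γ 1 = γ 22 * l ∧ l * γ 22 = γ 26 * l ∧ (∃ m ∈ K γ 4, m * γ 22 = γ 22 * γ 26 * m ∧ (∀ y ∈ K γ 3, y * γ 22 = γ 22 * y → (∃ t ∈ K γ 3, t * γ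
    22 = γ 22 * t ∧ t * y ≠ y * t) ∨ (cj g y = y → y * cj k y = cj l y * cj m y → y = 1) ∧ (cj g y = y * γ 1 → y * cj k y ≠ cj l y * γ 1 * cj m y)))))
    :=
  h.tr (φ := .ex 1 106 [(.l 1, .l 22), (.l 22, .mul (.l 1) (.l 22))] (.ex 1 107 [(.l 1, .mul (.l 1) (.l 22)), (.l 22, .l 26)] (.ex 1 108 [(.l 1, .l
    22), (.l 22, .l 26)] (.ex 4 109 [(.l 22, .mul (.l 22) (.l 26))] (.all 3 101 [(.l 22, .l 22)] (.or (.ex 3 102 [(.l 22, .l 22)] (.not (.eq (.mul (.l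
    102) (.l 101)) (.mul (.l 101) (.l 102))))) (.and (.imp (.eq (.mul (.mul (.l 106) (.l 101)) (.inv (.l 106))) (.l 101)) (.imp (.eq (.mul (.l 101)
    (.mul (.mul (.l 107) (.l 101)) (.inv (.l 107)))) (.mul (.mul (.mul (.l 108) (.l 101)) (.inv (.l 108))) (.mul (.mul (.l 109) (.l 101)) (.inv (.l
    109))))) (.one (.l 101)))) (.imp (.eq (.mul (.mul (.l 106) (.l 101)) (.inv (.l 106))) (.mul (.l 101) (.l 1))) (.not (.eq (.mul (.l 101) (.mul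
    (.mul (.l 107) (.l 101)) (.inv (.l 107)))) (.mul (.mul (.mul (.mul (.l 108) (.l 101)) (.inv (.l 108))) (.l 1)) (.mul (.mul (.l 109) (.l 101))
    (.inv (.l 109))))))))))))))
    (by decide +kernel)

theorem f_fb2 : (∃ g ∈ K γ 1, g * γ 1 = γ 23 * g ∧ g * γ 22 = γ 27 * g ∧ True) ∧ Cn (K γ 4) (γ 22) (γ 23 * γ 27) ∧ (∃ g ∈ K γ 1, g * γ 1 = γ 23 * g ∧
    g * γ 23 = γ 1 * γ 23 * g ∧ (∃ k ∈ K γ 1, k * γ 1 = γ 1 * γ 23 * k ∧ k * γ 23 = γ 27 * k ∧ (∀ y ∈ K γ 3, y * γ 23 = γ 23 * y → (∃ t ∈ K γ 3, t * γ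
    23 = γ 23 * t ∧ t * y ≠ y * t) ∨ (cj g y = y ∨ cj g y = y * γ 1 → y * cj k y = 1 → y = 1)))) :=
  h.tr (φ := .and (.ex 1 106 [(.l 1, .l 23), (.l 22, .l 27)] (.tt)) (.and (.ex 4 106 [(.l 22, .mul (.l 23) (.l 27))] (.tt)) (.ex 1 106 [(.l 1, .l 23),
    (.l 23, .mul (.l 1) (.l 23))] (.ex 1 107 [(.l 1, .mul (.l 1) (.l 23)), (.l 23, .l 27)] (.all 3 101 [(.l 23, .l 23)] (.or (.ex 3 102 [(.l 23, .l
    23)] (.not (.eq (.mul (.l 102) (.l 101)) (.mul (.l 101) (.l 102))))) (.imp (.or (.eq (.mul (.mul (.l 106) (.l 101)) (.inv (.l 106))) (.l 101))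
    (.eq (.mul (.mul (.l 106) (.l 101)) (.inv (.l 106))) (.mul (.l 101) (.l 1)))) (.imp (.one (.mul (.l 101) (.mul (.mul (.l 107) (.l 101)) (.inv (.l
    107))))) (.one (.l 101))))))))))
    (by decide +kernel)

theorem f_fi3 : (∃ g ∈ K γ 1, g * γ 24 = γ 1 * γ 24 * g ∧ g * γ 28 = γ 28 * g ∧ True) ∧ Cn (K γ 4) (γ 23) (γ 24 * γ 28) :=
  h.tr (φ := .and (.ex 1 106 [(.l 24, .mul (.l 1) (.l 24)), (.l 28, .l 28)] (.tt)) (.ex 4 106 [(.l 23, .mul (.l 24) (.l 28))] (.tt)))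
    (by decide +kernel)

theorem f_fa3 : ∃ g ∈ K γ 1, g * γ 1 = γ 24 * g ∧ g * γ 24 = γ 1 * γ 24 * g ∧ (∃ k ∈ K γ 1, k * γ 1 = γ 1 * γ 24 * k ∧ k * γ 24 = γ 29 * k ∧ (∃ l ∈ K
    γ 1, l * γ 1 = γ 24 * l ∧ l * γ 24 = γ 29 * l ∧ (∃ m ∈ K γ 4, m * γ 24 = γ 24 * γ 29 * m ∧ (∀ y ∈ K γ 4, y * γ 24 = γ 24 * y → (∃ t ∈ K γ 3, t * γ
    24 = γ 24 * t ∧ t * y ≠ y * t) ∨ (cj g y = y → y * cj k y = cj l y * cj m y → y = 1) ∧ (cj g y = y * γ 1 → y * cj k y ≠ cj l y * γ 1 * cj m y)))))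
    :=
  h.tr (φ := .ex 1 106 [(.l 1, .l 24), (.l 24, .mul (.l 1) (.l 24))] (.ex 1 107 [(.l 1, .mul (.l 1) (.l 24)), (.l 24, .l 29)] (.ex 1 108 [(.l 1, .l
    24), (.l 24, .l 29)] (.ex 4 109 [(.l 24, .mul (.l 24) (.l 29))] (.all 4 101 [(.l 24, .l 24)] (.or (.ex 3 102 [(.l 24, .l 24)] (.not (.eq (.mul (.l
    102) (.l 101)) (.mul (.l 101) (.l 102))))) (.and (.imp (.eq (.mul (.mul (.l 106) (.l 101)) (.inv (.l 106))) (.l 101)) (.imp (.eq (.mul (.l 101)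
    (.mul (.mul (.l 107) (.l 101)) (.inv (.l 107)))) (.mul (.mul (.mul (.l 108) (.l 101)) (.inv (.l 108))) (.mul (.mul (.l 109) (.l 101)) (.inv (.l
    109))))) (.one (.l 101)))) (.imp (.eq (.mul (.mul (.l 106) (.l 101)) (.inv (.l 106))) (.mul (.l 101) (.l 1))) (.not (.eq (.mul (.l 101) (.mul
    (.mul (.l 107) (.l 101)) (.inv (.l 107)))) (.mul (.mul (.mul (.mul (.l 108) (.l 101)) (.inv (.l 108))) (.l 1)) (.mul (.mul (.l 109) (.l 101))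
    (.inv (.l 109))))))))))))))
    (by decide +kernel)

theorem f_fb4 : (∃ g ∈ K γ 1, g * γ 1 = γ 25 * g ∧ g * γ 23 = γ 30 * g ∧ True) ∧ Cn (K γ 4) (γ 24) (γ 25 * γ 30) ∧ (∃ g ∈ K γ 1, g * γ 1 = γ 25 * g ∧
    g * γ 25 = γ 1 * γ 25 * g ∧ (∃ k ∈ K γ 1, k * γ 1 = γ 1 * γ 25 * k ∧ k * γ 25 = γ 30 * k ∧ (∀ y ∈ K γ 3, y * γ 25 = γ 25 * y → (∃ t ∈ K γ 3, t * γ
    25 = γ 25 * t ∧ t * y ≠ y * t) ∨ (cj g y = y ∨ cj g y = y * γ 1 → y * cj k y = 1 → y = 1)))) :=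
  h.tr (φ := .and (.ex 1 106 [(.l 1, .l 25), (.l 23, .l 30)] (.tt)) (.and (.ex 4 106 [(.l 24, .mul (.l 25) (.l 30))] (.tt)) (.ex 1 106 [(.l 1, .l 25),
    (.l 25, .mul (.l 1) (.l 25))] (.ex 1 107 [(.l 1, .mul (.l 1) (.l 25)), (.l 25, .l 30)] (.all 3 101 [(.l 25, .l 25)] (.or (.ex 3 102 [(.l 25, .l
    25)] (.not (.eq (.mul (.l 102) (.l 101)) (.mul (.l 101) (.l 102))))) (.imp (.or (.eq (.mul (.mul (.l 106) (.l 101)) (.inv (.l 106))) (.l 101))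
    (.eq (.mul (.mul (.l 106) (.l 101)) (.inv (.l 106))) (.mul (.l 101) (.l 1)))) (.imp (.one (.mul (.l 101) (.mul (.mul (.l 107) (.l 101)) (.inv (.l
    107))))) (.one (.l 101))))))))))
    (by decide +kernel)

theorem f_fd1 : ∀ y ∈ K γ 0, y * γ 1 = γ 1 * y → y * γ 31 = γ 31 * y → y = 1 ∨ (∃ t ∈ K γ 0, t * γ 1 = γ 1 * t ∧ t * γ 31 = γ 31 * t ∧ t * y ≠ y * t)
    ∨ (∃ x ∈ K γ 1, x * γ 31 = γ 31 * x ∧ x * x = 1 ∧ (γ 1 * x) ^ 4 = 1 ∧ (γ 1 * (x * γ 31)) ^ 4 = 1 ∧ y * x ≠ x * y) ∨ (∃ x ∈ K γ 1, x * γ 1 = γ 1 *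
    x ∧ x * x = 1 ∧ (γ 31 * x) ^ 4 = 1 ∧ (γ 31 * (x * γ 1)) ^ 4 = 1 ∧ y * x ≠ x * y) :=
  h.tr (φ := .all 0 101 [(.l 1, .l 1), (.l 31, .l 31)] (.or (.one (.l 101)) (.or (.ex 0 102 [(.l 1, .l 1), (.l 31, .l 31)] (.not (.eq (.mul (.l 102)
    (.l 101)) (.mul (.l 101) (.l 102))))) (.or (.ex 1 100 [(.l 31, .l 31)] (.and (.one (.mul (.l 100) (.l 100))) (.and (.one (.pow (.mul (.l 1) (.l
    100)) 4)) (.and (.one (.pow (.mul (.l 1) (.mul (.l 100) (.l 31))) 4)) (.not (.eq (.mul (.l 101) (.l 100)) (.mul (.l 100) (.l 101)))))))) (.ex 1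
    100 [(.l 1, .l 1)] (.and (.one (.mul (.l 100) (.l 100))) (.and (.one (.pow (.mul (.l 31) (.l 100)) 4)) (.and (.one (.pow (.mul (.l 31) (.mul (.l
    100) (.l 1))) 4)) (.not (.eq (.mul (.l 101) (.l 100)) (.mul (.l 100) (.l 101))))))))))))
    (by decide +kernel)

theorem f_fd2 : ∀ y ∈ K γ 0, y * γ 1 = γ 1 * y → y * γ 32 = γ 32 * y → y = 1 ∨ (∃ t ∈ K γ 0, t * γ 1 = γ 1 * t ∧ t * γ 32 = γ 32 * t ∧ t * y ≠ y * t)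
    ∨ (∃ x ∈ K γ 1, x * γ 32 = γ 32 * x ∧ x * x = 1 ∧ (γ 1 * x) ^ 4 = 1 ∧ (γ 1 * (x * γ 32)) ^ 4 = 1 ∧ y * x ≠ x * y) ∨ (∃ x ∈ K γ 1, x * γ 1 = γ 1 *
    x ∧ x * x = 1 ∧ (γ 32 * x) ^ 4 = 1 ∧ (γ 32 * (x * γ 1)) ^ 4 = 1 ∧ y * x ≠ x * y) :=
  h.tr (φ := .all 0 101 [(.l 1, .l 1), (.l 32, .l 32)] (.or (.one (.l 101)) (.or (.ex 0 102 [(.l 1, .l 1), (.l 32, .l 32)] (.not (.eq (.mul (.l 102)
    (.l 101)) (.mul (.l 101) (.l 102))))) (.or (.ex 1 100 [(.l 32, .l 32)] (.and (.one (.mul (.l 100) (.l 100))) (.and (.one (.pow (.mul (.l 1) (.l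
    100)) 4)) (.and (.one (.pow (.mul (.l 1) (.mul (.l 100) (.l 32))) 4)) (.not (.eq (.mul (.l 101) (.l 100)) (.mul (.l 100) (.l 101)))))))) (.ex 1
    100 [(.l 1, .l 1)] (.and (.one (.mul (.l 100) (.l 100))) (.and (.one (.pow (.mul (.l 32) (.l 100)) 4)) (.and (.one (.pow (.mul (.l 32) (.mul (.l
    100) (.l 1))) 4)) (.not (.eq (.mul (.l 101) (.l 100)) (.mul (.l 100) (.l 101))))))))))))
    (by decide +kernel)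

theorem f_fd3 : ∀ y ∈ K γ 0, y * γ 31 = γ 31 * y → y * γ 32 = γ 32 * y → y = 1 ∨ (∃ t ∈ K γ 0, t * γ 31 = γ 31 * t ∧ t * γ 32 = γ 32 * t ∧ t * y ≠ y *
    t) ∨ (∃ x ∈ K γ 1, x * γ 32 = γ 32 * x ∧ x * x = 1 ∧ (γ 31 * x) ^ 4 = 1 ∧ (γ 31 * (x * γ 32)) ^ 4 = 1 ∧ y * x ≠ x * y) ∨ (∃ x ∈ K γ 1, x * γ 31 =
    γ 31 * x ∧ x * x = 1 ∧ (γ 32 * x) ^ 4 = 1 ∧ (γ 32 * (x * γ 31)) ^ 4 = 1 ∧ y * x ≠ x * y) :=
  h.tr (φ := .all 0 101 [(.l 31, .l 31), (.l 32, .l 32)] (.or (.one (.l 101)) (.or (.ex 0 102 [(.l 31, .l 31), (.l 32, .l 32)] (.not (.eq (.mul (.l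
    102) (.l 101)) (.mul (.l 101) (.l 102))))) (.or (.ex 1 100 [(.l 32, .l 32)] (.and (.one (.mul (.l 100) (.l 100))) (.and (.one (.pow (.mul (.l 31)
    (.l 100)) 4)) (.and (.one (.pow (.mul (.l 31) (.mul (.l 100) (.l 32))) 4)) (.not (.eq (.mul (.l 101) (.l 100)) (.mul (.l 100) (.l 101)))))))) (.ex
    1 100 [(.l 31, .l 31)] (.and (.one (.mul (.l 100) (.l 100))) (.and (.one (.pow (.mul (.l 32) (.l 100)) 4)) (.and (.one (.pow (.mul (.l 32) (.mul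
    (.l 100) (.l 31))) 4)) (.not (.eq (.mul (.l 101) (.l 100)) (.mul (.l 100) (.l 101))))))))))))
    (by decide +kernel)

end Md

end Cfsg.Lib.J11.Mo
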