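import Cfsg.Agent.Lib.J11.FmB

/-! # Evaluated formulas, part 1 (generated; helper19) -/

set_option autoImplicit false
set_option maxRecDepth 100000

namespace Cfsg.Lib.J11.Mo

open Subgroup Cfsg.Lib.RI Cfsg.Lib.Calc Cfsg.Lib.Mathieu Cfsg.Lib.T2

section

variable {γ : ℕ → M24} {H : Subgroup M24}

theorem le0 (a0 : γ 15 ∈ H) (a1 : γ 16 ∈ H) (a2 : γ 2 ∈ H) : K γ 0 ≤ H :=
  genW_le.2 (show ∀ t ∈ ([.l 15, .l 16, .l 2] : List W), t.ev γ ∈ H from List.forall_mem_cons.2 ⟨a0, List.forall_mem_cons.2 ⟨a1,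
    List.forall_mem_cons.2 ⟨a2, fun _ h => nomatch h⟩⟩⟩)
theorem le1 (a0 : γ 15 ∈ H) (a1 : γ 16 ∈ H) : K γ 1 ≤ H :=
  genW_le.2 (show ∀ t ∈ ([.l 15, .l 16] : List W), t.ev γ ∈ H from List.forall_mem_cons.2 ⟨a0, List.forall_mem_cons.2 ⟨a1, fun _ h => nomatch h⟩⟩)
theorem le2 (a0 : γ 1 ∈ H) (a1 : γ 7 ∈ H) (a2 : γ 8 ∈ H) (a3 : γ 9 ∈ H) : K γ 2 ≤ H :=
  genW_le.2 (show ∀ t ∈ ([.l 1, .l 7, .l 8, .l 9] : List W), t.ev γ ∈ H from List.forall_mem_cons.2 ⟨a0, List.forall_mem_cons.2 ⟨a1,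
    List.forall_mem_cons.2 ⟨a2, List.forall_mem_cons.2 ⟨a3, fun _ h => nomatch h⟩⟩⟩⟩)
theorem le3 (a0 : γ 7 ∈ H) (a1 : γ 8 ∈ H) (a2 : γ 9 ∈ H) (a3 : γ 12 ∈ H) (a4 : γ 13 ∈ H) (a5 : γ 14 ∈ H) (a6 : γ 2 ∈ H) : K γ 3 ≤ H :=
  genW_le.2 (show ∀ t ∈ ([.l 7, .l 8, .l 9, .l 12, .l 13, .l 14, .l 2] : List W), t.ev γ ∈ H from List.forall_mem_cons.2 ⟨a0, List.forall_mem_cons.2
    ⟨a1, List.forall_mem_cons.2 ⟨a2, List.forall_mem_cons.2 ⟨a3, List.forall_mem_cons.2 ⟨a4, List.forall_mem_cons.2 ⟨a5, List.forall_mem_cons.2 ⟨a6,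
    fun _ h => nomatch h⟩⟩⟩⟩⟩⟩⟩)
theorem le4 (a0 : γ 7 ∈ H) (a1 : γ 8 ∈ H) (a2 : γ 9 ∈ H) (a3 : γ 12 ∈ H) (a4 : γ 13 ∈ H) (a5 : γ 14 ∈ H) : K γ 4 ≤ H :=
  genW_le.2 (show ∀ t ∈ ([.l 7, .l 8, .l 9, .l 12, .l 13, .l 14] : List W), t.ev γ ∈ H from List.forall_mem_cons.2 ⟨a0, List.forall_mem_cons.2 ⟨a1,
    List.forall_mem_cons.2 ⟨a2, List.forall_mem_cons.2 ⟨a3, List.forall_mem_cons.2 ⟨a4, List.forall_mem_cons.2 ⟨a5, fun _ h => nomatch h⟩⟩⟩⟩⟩⟩)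
theorem le5 (a0 : γ 4 ∈ H) (a1 : γ 5 ∈ H) (a2 : γ 6 ∈ H) : K γ 5 ≤ H :=
  genW_le.2 (show ∀ t ∈ ([.l 4, .l 5, .l 6] : List W), t.ev γ ∈ H from List.forall_mem_cons.2 ⟨a0, List.forall_mem_cons.2 ⟨a1, List.forall_mem_cons.2
    ⟨a2, fun _ h => nomatch h⟩⟩⟩)
theorem le6 (a0 : cj (γ 4) (γ 5) * (γ 5)⁻¹ ∈ H) (a1 : cj (γ 5) (γ 6) * (γ 6)⁻¹ ∈ H) (a2 : cj (γ 4) (γ 6) * (γ 6)⁻¹ ∈ H) (a3 : cj (γ 4 * γ 4) (γ 5) *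
    (γ 5)⁻¹ ∈ H) : K γ 6 ≤ H :=
  genW_le.2 (show ∀ t ∈ ([.mul (.mul (.mul (.l 4) (.l 5)) (.inv (.l 4))) (.inv (.l 5)), .mul (.mul (.mul (.l 5) (.l 6)) (.inv (.l 5))) (.inv (.l 6)),
    .mul (.mul (.mul (.l 4) (.l 6)) (.inv (.l 4))) (.inv (.l 6)), .mul (.mul (.mul (.mul (.l 4) (.l 4)) (.l 5)) (.inv (.mul (.l 4) (.l 4)))) (.inv (.l
    5))] : List W), t.ev γ ∈ H from List.forall_mem_cons.2 ⟨a0, List.forall_mem_cons.2 ⟨a1, List.forall_mem_cons.2 ⟨a2, List.forall_mem_cons.2 ⟨a3,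
    fun _ h => nomatch h⟩⟩⟩⟩)
theorem le7 (a0 : γ 17 ∈ H) (a1 : γ 18 ∈ H) : K γ 7 ≤ H :=
  genW_le.2 (show ∀ t ∈ ([.l 17, .l 18] : List W), t.ev γ ∈ H from List.forall_mem_cons.2 ⟨a0, List.forall_mem_cons.2 ⟨a1, fun _ h => nomatch h⟩⟩)
theorem le8 (a0 : γ 19 ∈ H) (a1 : γ 20 ∈ H) : K γ 8 ≤ H :=
  genW_le.2 (show ∀ t ∈ ([.l 19, .l 20] : List W), t.ev γ ∈ H from List.forall_mem_cons.2 ⟨a0, List.forall_mem_cons.2 ⟨a1, fun _ h => nomatch h⟩⟩)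
theorem le9 (a0 : γ 1 ∈ H) (a1 : γ 7 ∈ H) (a2 : γ 8 ∈ H) (a3 : γ 9 ∈ H) (a4 : γ 12 ∈ H) (a5 : γ 13 ∈ H) (a6 : γ 2 ∈ H) : K γ 9 ≤ H :=
  genW_le.2 (show ∀ t ∈ ([.l 1, .l 7, .l 8, .l 9, .l 12, .l 13, .l 2] : List W), t.ev γ ∈ H from List.forall_mem_cons.2 ⟨a0, List.forall_mem_cons.2
    ⟨a1, List.forall_mem_cons.2 ⟨a2, List.forall_mem_cons.2 ⟨a3, List.forall_mem_cons.2 ⟨a4, List.forall_mem_cons.2 ⟨a5, List.forall_mem_cons.2 ⟨a6,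
    fun _ h => nomatch h⟩⟩⟩⟩⟩⟩⟩)
theorem le10 (a0 : γ 1 ∈ H) (a1 : γ 7 ∈ H) (a2 : γ 8 ∈ H) (a3 : γ 9 ∈ H) (a4 : γ 12 ∈ H) (a5 : γ 13 ∈ H) : K γ 10 ≤ H :=
  genW_le.2 (show ∀ t ∈ ([.l 1, .l 7, .l 8, .l 9, .l 12, .l 13] : List W), t.ev γ ∈ H from List.forall_mem_cons.2 ⟨a0, List.forall_mem_cons.2 ⟨a1,
    List.forall_mem_cons.2 ⟨a2, List.forall_mem_cons.2 ⟨a3, List.forall_mem_cons.2 ⟨a4, List.forall_mem_cons.2 ⟨a5, fun _ h => nomatch h⟩⟩⟩⟩⟩⟩)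
theorem le11 (a0 : γ 1 ∈ H) (a1 : γ 7 ∈ H) (a2 : γ 10 ∈ H) (a3 : γ 11 ∈ H) (a4 : γ 2 ∈ H) : K γ 11 ≤ H :=
  genW_le.2 (show ∀ t ∈ ([.l 1, .l 7, .l 10, .l 11, .l 2] : List W), t.ev γ ∈ H from List.forall_mem_cons.2 ⟨a0, List.forall_mem_cons.2 ⟨a1,
    List.forall_mem_cons.2 ⟨a2, List.forall_mem_cons.2 ⟨a3, List.forall_mem_cons.2 ⟨a4, fun _ h => nomatch h⟩⟩⟩⟩⟩)
theorem le12 (a0 : γ 1 ∈ H) (a1 : γ 7 ∈ H) (a2 : γ 10 ∈ H) (a3 : γ 11 ∈ H) : K γ 12 ≤ H :=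
  genW_le.2 (show ∀ t ∈ ([.l 1, .l 7, .l 10, .l 11] : List W), t.ev γ ∈ H from List.forall_mem_cons.2 ⟨a0, List.forall_mem_cons.2 ⟨a1,
    List.forall_mem_cons.2 ⟨a2, List.forall_mem_cons.2 ⟨a3, fun _ h => nomatch h⟩⟩⟩⟩)
theorem le13 (a0 : γ 1 ∈ H) (a1 : γ 7 ∈ H) (a2 : γ 9 ∈ H) (a3 : γ 10 * γ 11 ∈ H) (a4 : γ 2 ∈ H) : K γ 13 ≤ H :=
  genW_le.2 (show ∀ t ∈ ([.l 1, .l 7, .l 9, .mul (.l 10) (.l 11), .l 2] : List W), t.ev γ ∈ H from List.forall_mem_cons.2 ⟨a0, List.forall_mem_cons.2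
    ⟨a1, List.forall_mem_cons.2 ⟨a2, List.forall_mem_cons.2 ⟨a3, List.forall_mem_cons.2 ⟨a4, fun _ h => nomatch h⟩⟩⟩⟩⟩)
theorem le14 (a0 : γ 21 ∈ H) (a1 : γ 4 ∈ H) (a2 : γ 1 ∈ H) (a3 : γ 2 ∈ H) : K γ 14 ≤ H :=
  genW_le.2 (show ∀ t ∈ ([.l 21, .l 4, .l 1, .l 2] : List W), t.ev γ ∈ H from List.forall_mem_cons.2 ⟨a0, List.forall_mem_cons.2 ⟨a1,
    List.forall_mem_cons.2 ⟨a2, List.forall_mem_cons.2 ⟨a3, fun _ h => nomatch h⟩⟩⟩⟩)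
theorem le15 (a0 : γ 21 ∈ H) (a1 : γ 4 ∈ H) (a2 : γ 1 ∈ H) : K γ 15 ≤ H :=
  genW_le.2 (show ∀ t ∈ ([.l 21, .l 4, .l 1] : List W), t.ev γ ∈ H from List.forall_mem_cons.2 ⟨a0, List.forall_mem_cons.2 ⟨a1, List.forall_mem_cons.2
    ⟨a2, fun _ h => nomatch h⟩⟩⟩)
theorem le16 (a0 : γ 19 ∈ H) (a1 : γ 12 ∈ H) (a2 : γ 13 ∈ H) (a3 : γ 2 ∈ H) : K γ 16 ≤ H :=
  genW_le.2 (show ∀ t ∈ ([.l 19, .l 12, .l 13, .l 2] : List W), t.ev γ ∈ H from List.forall_mem_cons.2 ⟨a0, List.forall_mem_cons.2 ⟨a1,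
    List.forall_mem_cons.2 ⟨a2, List.forall_mem_cons.2 ⟨a3, fun _ h => nomatch h⟩⟩⟩⟩)
theorem le17 (a0 : γ 19 ∈ H) (a1 : γ 12 ∈ H) (a2 : γ 13 ∈ H) : K γ 17 ≤ H :=
  genW_le.2 (show ∀ t ∈ ([.l 19, .l 12, .l 13] : List W), t.ev γ ∈ H from List.forall_mem_cons.2 ⟨a0, List.forall_mem_cons.2 ⟨a1,
    List.forall_mem_cons.2 ⟨a2, fun _ h => nomatch h⟩⟩⟩)
theorem le18 (a0 : γ 1 ∈ H) (a1 : γ 7 ∈ H) (a2 : γ 8 ∈ H) (a3 : γ 9 ∈ H) (a4 : γ 4 ∈ H) (a5 : γ 5 ∈ H) : K γ 18 ≤ H :=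
  genW_le.2 (show ∀ t ∈ ([.l 1, .l 7, .l 8, .l 9, .l 4, .l 5] : List W), t.ev γ ∈ H from List.forall_mem_cons.2 ⟨a0, List.forall_mem_cons.2 ⟨a1,
    List.forall_mem_cons.2 ⟨a2, List.forall_mem_cons.2 ⟨a3, List.forall_mem_cons.2 ⟨a4, List.forall_mem_cons.2 ⟨a5, fun _ h => nomatch h⟩⟩⟩⟩⟩⟩)
theorem le19 (a0 : γ 4 ∈ H) (a1 : γ 5 ∈ H) (a2 : γ 6 ∈ H) (a3 : γ 2 ∈ H) : K γ 19 ≤ H :=
  genW_le.2 (show ∀ t ∈ ([.l 4, .l 5, .l 6, .l 2] : List W), t.ev γ ∈ H from List.forall_mem_cons.2 ⟨a0, List.forall_mem_cons.2 ⟨a1,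
    List.forall_mem_cons.2 ⟨a2, List.forall_mem_cons.2 ⟨a3, fun _ h => nomatch h⟩⟩⟩⟩)
theorem le20 (a0 : γ 17 ∈ H) : K γ 20 ≤ H :=
  genW_le.2 (show ∀ t ∈ ([.l 17] : List W), t.ev γ ∈ H from List.forall_mem_cons.2 ⟨a0, fun _ h => nomatch h⟩)
theorem le21 (a0 : γ 1 ∈ H) (a1 : γ 7 ∈ H) : K γ 21 ≤ H :=
  genW_le.2 (show ∀ t ∈ ([.l 1, .l 7] : List W), t.ev γ ∈ H from List.forall_mem_cons.2 ⟨a0, List.forall_mem_cons.2 ⟨a1, fun _ h => nomatch h⟩⟩)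

end

namespace Md

variable {γ : ℕ → M24} (h : Md γ)
include h

theorem f_cls : ∀ x ∈ K γ 9, x * x = 1 → x = 1 ∨ x ∈ K γ 1 ∧ Cn (K γ 1) (γ 1) x ∨ x ∉ K γ 1 ∧ (Cn (K γ 1) (γ 2) x ∨ Cn (K γ 1) (γ 3) x) :=
  h.tr (φ := .all 9 100 [] (.imp (.one (.mul (.l 100) (.l 100))) (.or (.one (.l 100)) (.or (.and (.mem 1 (.l 100)) (.ex 1 106 [(.l 1, .l 100)] (.tt)))
    (.and (.not (.mem 1 (.l 100))) (.or (.ex 1 106 [(.l 2, .l 100)] (.tt)) (.ex 1 106 [(.l 3, .l 100)] (.tt))))))))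
    (by decide +kernel)

theorem f_cz : ∀ x ∈ K γ 0, x * γ 1 = γ 1 * x → x ∈ K γ 3 ∧ x ∈ K γ 14 :=
  h.tr (φ := .all 0 100 [(.l 1, .l 1)] (.and (.mem 3 (.l 100)) (.mem 14 (.l 100))))
    (by decide +kernel)

theorem f_cm : ∀ x ∈ K γ 3, x ∈ K γ 1 → x ∈ K γ 4 :=
  h.tr (φ := .all 3 100 [] (.imp (.mem 1 (.l 100)) (.mem 4 (.l 100))))
    (by decide +kernel)

theorem f_cx : ∀ x ∈ K γ 4, x ^ 4 ∈ K γ 5 :=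
  h.tr (φ := .all 4 100 [] (.mem 5 (.pow (.l 100) 4)))
    (by decide +kernel)

theorem f_cb : ∀ x ∈ K γ 1, x * γ 2 = γ 2 * x → x ∈ K γ 7 :=
  h.tr (φ := .all 1 100 [(.l 2, .l 2)] (.mem 7 (.l 100)))
    (by decide +kernel)

theorem f_cc : ∀ x ∈ K γ 1, x * γ 3 = γ 3 * x → x ^ 4 ∈ K γ 8 :=
  h.tr (φ := .all 1 100 [(.l 3, .l 3)] (.mem 8 (.pow (.l 100) 4)))
    (by decide +kernel)

theorem f_nz : ∀ x ∈ K γ 5, x ^ 4 = 1 ∨ Cn (K γ 5) (γ 4) (x ^ 2) ∨ Cn (K γ 5) (γ 4) (x ^ 4) :=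
  h.tr (φ := .all 5 100 [] (.or (.one (.pow (.l 100) 4)) (.or (.ex 5 106 [(.l 4, .pow (.l 100) 2)] (.tt)) (.ex 5 106 [(.l 4, .pow (.l 100) 4)]
    (.tt)))))
    (by decide +kernel)

theorem f_nb : ∀ x ∈ K γ 7, x ^ 8 = 1 ∨ x ^ 6 = 1 ∧ Cn (K γ 7) (γ 4) (x ^ 2) ∨ Cn (K γ 7) (γ 17) x ∨ Cn (K γ 7) (γ 17) (x ^ 6) :=
  h.tr (φ := .all 7 100 [] (.or (.one (.pow (.l 100) 8)) (.or (.and (.one (.pow (.l 100) 6)) (.ex 7 106 [(.l 4, .pow (.l 100) 2)] (.tt))) (.or (.ex 7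
    106 [(.l 17, .l 100)] (.tt)) (.ex 7 106 [(.l 17, .pow (.l 100) 6)] (.tt))))))
    (by decide +kernel)

theorem f_nc : ∀ x ∈ K γ 8, x ^ 2 = 1 ∨ Cn (K γ 8) (γ 19) (x ^ 1) ∨ Cn (K γ 8) (γ 19) (x ^ 2) ∨ Cn (K γ 8) (γ 19) (x ^ 3) ∨ Cn (K γ 8) (γ 19) (x ^ 4)
    :=
  h.tr (φ := .all 8 100 [] (.or (.one (.pow (.l 100) 2)) (.or (.ex 8 106 [(.l 19, .pow (.l 100) 1)] (.tt)) (.or (.ex 8 106 [(.l 19, .pow (.l 100) 2)]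
    (.tt)) (.or (.ex 8 106 [(.l 19, .pow (.l 100) 3)] (.tt)) (.ex 8 106 [(.l 19, .pow (.l 100) 4)] (.tt)))))))
    (by decide +kernel)

theorem f_ng : Cn (K γ 5) (γ 4 ^ 2) (γ 5) ∧ Cn (K γ 5) (γ 4) (γ 6) ∧ Cn (K γ 7) (γ 17) (γ 18) ∧ Cn (K γ 8) (γ 19) (γ 20) ∧ (∃ g ∈ K γ 7, Cn (K γ 7) (γ
    4) ((cj g (γ 4))⁻¹ * γ 17)) :=
  h.tr (φ := .and (.ex 5 106 [(.pow (.l 4) 2, .l 5)] (.tt)) (.and (.ex 5 106 [(.l 4, .l 6)] (.tt)) (.and (.ex 7 106 [(.l 17, .l 18)] (.tt)) (.and (.ex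
    8 106 [(.l 19, .l 20)] (.tt)) (.ex 7 106 [] (.ex 7 107 [(.l 4, .mul (.inv (.mul (.mul (.l 106) (.l 4)) (.inv (.l 106)))) (.l 17))] (.tt)))))))
    (by decide +kernel)

theorem f_xz : ∀ x ∈ K γ 3, x * γ 4 = γ 4 * x → x * γ 5 = γ 5 * x → x * γ 6 = γ 6 * x → x = 1 ∨ x = γ 1 ∨ x = γ 2 ∨ x = γ 1 * γ 2 :=
  h.tr (φ := .all 3 100 [(.l 4, .l 4), (.l 5, .l 5), (.l 6, .l 6)] (.or (.one (.l 100)) (.or (.eq (.l 100) (.l 1)) (.or (.eq (.l 100) (.l 2)) (.eq (.l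
    100) (.mul (.l 1) (.l 2)))))))
    (by decide +kernel)

theorem f_xb : ∀ x ∈ K γ 0, x * γ 17 = γ 17 * x → x * γ 18 = γ 18 * x → x = 1 ∨ x = γ 2 :=
  h.tr (φ := .all 0 100 [(.l 17, .l 17), (.l 18, .l 18)] (.or (.one (.l 100)) (.eq (.l 100) (.l 2))))
    (by decide +kernel)

theorem f_xc : ∀ x ∈ K γ 0, x * γ 19 = γ 19 * x → x * γ 20 = γ 20 * x → x = 1 ∨ x = γ 3 :=
  h.tr (φ := .all 0 100 [(.l 19, .l 19), (.l 20, .l 20)] (.or (.one (.l 100)) (.eq (.l 100) (.l 3))))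
    (by decide +kernel)

theorem f_sig : ∀ x ∈ K γ 3, x * γ 2 = γ 2 * x → x ∈ K γ 19 ∨ x * γ 13 ∈ K γ 19 ∧ (γ 13)⁻¹ * x ∈ K γ 19 :=
  h.tr (φ := .all 3 100 [(.l 2, .l 2)] (.or (.mem 19 (.l 100)) (.and (.mem 19 (.mul (.l 100) (.l 13))) (.mem 19 (.mul (.inv (.l 13)) (.l 100))))))
    (by decide +kernel)

theorem f_idx : ∀ x ∈ K γ 4, x ∈ K γ 18 ∨ x * γ 13 ∈ K γ 18 ∧ (γ 13)⁻¹ * x ∈ K γ 18 :=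
  h.tr (φ := .all 4 100 [] (.or (.mem 18 (.l 100)) (.and (.mem 18 (.mul (.l 100) (.l 13))) (.mem 18 (.mul (.inv (.l 13)) (.l 100))))))
    (by decide +kernel)

theorem f_sq1 : ∃ x ∈ K γ 5, x * x = γ 1 :=
  h.tr (φ := .ex 5 100 [] (.eq (.mul (.l 100) (.l 100)) (.l 1)))
    (by decide +kernel)

theorem f_sq2 : ∀ x ∈ K γ 5, (x * x) ^ 3 = 1 ∨ x * x = γ 1 :=
  h.tr (φ := .all 5 100 [] (.or (.one (.pow (.mul (.l 100) (.l 100)) 3)) (.eq (.mul (.l 100) (.l 100)) (.l 1))))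
    (by decide +kernel)

theorem f_der : (∀ x ∈ K γ 5, x ∈ K γ 6 ∨ (γ 4)⁻¹ * x ∈ K γ 6 ∨ (γ 4 * γ 4)⁻¹ * x ∈ K γ 6) ∧ (∀ x ∈ K γ 6, x ^ 4 = 1) :=
  h.tr (φ := .and (.all 5 100 [] (.or (.mem 6 (.l 100)) (.or (.mem 6 (.mul (.inv (.l 4)) (.l 100))) (.mem 6 (.mul (.inv (.mul (.l 4) (.l 4))) (.l
    100)))))) (.all 6 100 [] (.one (.pow (.l 100) 4))))
    (by decide +kernel)

theorem f_oct : (∀ x ∈ K γ 20, cj x (γ 1) ∈ K γ 6 ∧ (∀ y ∈ K γ 20, cj x (γ 1) * cj y (γ 1) = cj y (γ 1) * cj x (γ 1))) ∧ (∀ x ∈ K γ 20, x * γ 1 = γ 1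
    * x → x = 1) :=
  h.tr (φ := .and (.all 20 100 [] (.and (.mem 6 (.mul (.mul (.l 100) (.l 1)) (.inv (.l 100)))) (.all 20 101 [] (.eq (.mul (.mul (.mul (.l 100) (.l 1))
    (.inv (.l 100))) (.mul (.mul (.l 101) (.l 1)) (.inv (.l 101)))) (.mul (.mul (.mul (.l 101) (.l 1)) (.inv (.l 101))) (.mul (.mul (.l 100) (.l 1))
    (.inv (.l 100)))))))) (.all 20 100 [(.l 1, .l 1)] (.one (.l 100))))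
    (by decide +kernel)

end Md

end Cfsg.Lib.J11.Mo
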